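/-
Euler characteristics of bounded complexes for additive invariants.
-/
import Mathlib

set_option autoImplicit false
set_option linter.style.haveILetI false

universe v u w

open CategoryTheory CategoryTheory.Limits

namespace Groth.Agent.EulerLib

variable {C : Type u} [Category.{v} C] [Abelian C] {ι : Type*} {c : ComplexShape ι}

/-- The cokernel of the inclusion of the cycles (the image of the differential). -/
noncomputable abbrev Q (E : HomologicalComplex C c) (i : ι) : C := cokernel (E.iCycles i)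

theorem iCycles_toCycles (E : HomologicalComplex C c) (i j : ι) :
    E.iCycles i ≫ E.toCycles i j = 0 := by
  rw [← cancel_mono (E.iCycles j), Category.assoc, HomologicalComplex.toCycles_i,
    HomologicalComplex.iCycles_d, zero_comp]

/-- The comparison from the image to the next cycles. -/
noncomputable abbrev qToCycles (E : HomologicalComplex C c) (i j : ι) : Q E i ⟶ E.cycles j :=
  cokernel.desc _ (E.toCycles i j) (iCycles_toCycles E i j)

theorem qToCycles_π (E : HomologicalComplex C c) (i j : ι) :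
    qToCycles E i j ≫ E.homologyπ j = 0 := by
  rw [← cancel_epi (cokernel.π (E.iCycles i)), cokernel.π_desc_assoc,
    HomologicalComplex.toCycles_comp_homologyπ, comp_zero]

theorem shortExact_cycles (E : HomologicalComplex C c) (i : ι) :
    (ShortComplex.mk (E.iCycles i) (cokernel.π _) (cokernel.condition _)).ShortExact where
  exact := ShortComplex.exact_cokernel _
  mono_f := inferInstance
  epi_g := inferInstance

theorem shortExact_homology (E : HomologicalComplex C c) (i j : ι) (hij : c.Rel i j) :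
    (ShortComplex.mk (qToCycles E i j) (E.homologyπ j)
      (qToCycles_π E i j)).ShortExact := by
  have hex : (ShortComplex.mk (E.iCycles i) (E.toCycles i j)
      (iCycles_toCycles E i j)).Exact := by
    apply ShortComplex.exact_of_f_is_kernel
    exact KernelFork.IsLimit.ofι _ _
      (fun g hg => E.liftCycles g j (c.next_eq' hij) (by
        rw [← E.toCycles_i i j, reassoc_of% hg, zero_comp]))
      (fun g hg => E.liftCycles_i g j (c.next_eq' hij) _)
      (fun g hg m hm => by rw [← cancel_mono (E.iCycles i), E.liftCycles_i, hm])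
  have hm : Mono (qToCycles E i j) := hex.mono_cokernelDesc
  have h0 : (ShortComplex.mk (E.toCycles i j) (E.homologyπ j)
      (E.toCycles_comp_homologyπ _ _)).Exact :=
    ShortComplex.exact_of_g_is_cokernel _ (E.homologyIsCokernel i j (c.prev_eq' hij))
  refine { exact := ?_, mono_f := hm, epi_g := inferInstance }
  let φ : ShortComplex.mk (E.toCycles i j) (E.homologyπ j)
      (E.toCycles_comp_homologyπ _ _) ⟶ ShortComplex.mk (qToCycles E i j)
      (E.homologyπ j) (qToCycles_π E i j) :=
    { τ₁ := cokernel.π _, τ₂ := 𝟙 _, τ₃ := 𝟙 _ }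
  haveI : Epi φ.τ₁ := inferInstanceAs (Epi (cokernel.π _))
  haveI : IsIso φ.τ₂ := inferInstanceAs (IsIso (𝟙 _))
  haveI : Mono φ.τ₃ := inferInstanceAs (Mono (𝟙 _))
  exact (ShortComplex.exact_iff_of_epi_of_isIso_of_mono φ).1 h0

/-- The Euler characteristic of a bounded complex for an invariant which is additive on short
exact sequences of objects satisfying `P`; the shape is given by a bijection `σ`. -/
theorem euler {G : Type w} [AddCommGroup G] (P : C → Prop) (φ : C → G)
    (hzero : ∀ X, IsZero X → φ X = 0)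
    (hadd : ∀ S : ShortComplex C, S.ShortExact → P S.X₂ →
      φ S.X₂ = φ S.X₁ + φ S.X₃ ∧ P S.X₁ ∧ P S.X₃)
    (σ : ι ≃ ι) (hσ : ∀ i, c.Rel i (σ i))
    (ε : ι → ℤ) (hε : ∀ i, ε (σ i) = -ε i)
    (E : HomologicalComplex C c) (s : Finset ι) (hs : ∀ i, i ∉ s → IsZero (E.X i))
    (hP : ∀ i, P (E.X i)) :
    ∑ i ∈ s, ε i • φ (E.X i) = ∑ i ∈ s, ε i • φ (E.homology i) := by
  have h1 := fun i => hadd _ (shortExact_cycles E i) (hP i)
  have h2 : ∀ i, φ (E.cycles (σ i)) = φ (Q E i) + φ (E.homology (σ i)) := fun i =>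
    (hadd _ (shortExact_homology E i (σ i) (hσ i)) (h1 (σ i)).2.1).1
  let g : ι → G := fun i => ε i • φ (Q E i)
  have hdiff : ∀ i, ε i • φ (E.X i) - ε i • φ (E.homology i) = g i - g (σ.symm i) := fun i => by
    obtain ⟨j, rfl⟩ := σ.surjective i
    have e1 : φ (E.X (σ j)) = φ (E.cycles (σ j)) + φ (Q E (σ j)) := (h1 (σ j)).1
    rw [e1, h2 j, Equiv.symm_apply_apply]
    simp only [g, smul_add, hε j, neg_smul]
    abel
  have hQ0 : ∀ i, IsZero (E.X i) → IsZero (Q E i) := fun i h => by
    rw [IsZero.iff_id_eq_zero, ← cancel_epi (cokernel.π (E.iCycles i))]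
    exact h.eq_of_src _ _
  have hQ1 : ∀ i, IsZero (E.X (σ i)) → IsZero (Q E i) := fun i h => by
    haveI := (shortExact_homology E i (σ i) (hσ i)).mono_f
    exact IsZero.of_mono (qToCycles E i (σ i) ≫ E.iCycles (σ i)) h
  have hg0 : ∀ i, i ∉ s → g i = 0 := fun i hi => by
    change ε i • φ (Q E i) = 0
    rw [hzero _ (hQ0 i (hs i hi)), smul_zero]
  have hg1 : ∀ i, i ∉ s → g (σ.symm i) = 0 := fun i hi => by
    change ε (σ.symm i) • φ (Q E (σ.symm i)) = 0
    rw [hzero _ (hQ1 (σ.symm i) (by rw [Equiv.apply_symm_apply]; exact hs i hi)), smul_zero]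
  rw [← sub_eq_zero, ← Finset.sum_sub_distrib, Finset.sum_congr rfl fun i _ => hdiff i,
    Finset.sum_sub_distrib, sub_eq_zero]
  have a : ∑ᶠ i, g i = ∑ i ∈ s, g i :=
    finsum_eq_sum_of_support_subset _ fun i hi => by_contra fun h => hi (hg0 i h)
  have b : ∑ᶠ i, g (σ.symm i) = ∑ i ∈ s, g (σ.symm i) :=
    finsum_eq_sum_of_support_subset _ fun i hi => by_contra fun h => hi (hg1 i h)
  rw [← a, ← b]
  exact (finsum_comp_equiv σ.symm).symm

/-- The length of a module, as an integer. -/
noncomputable def len {A : Type u} [Ring A] (M : ModuleCat.{u} A) : ℤ :=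
  ((Module.length A M).toNat : ℤ)

theorem len_of_isZero {A : Type u} [Ring A] (M : ModuleCat.{u} A) (h : IsZero M) : len M = 0 := by
  haveI := ModuleCat.subsingleton_of_isZero h
  simp [len, Module.length_eq_zero]

theorem len_add {A : Type u} [Ring A] (S : ShortComplex (ModuleCat.{u} A)) (hS : S.ShortExact)
    (h : IsFiniteLength A S.X₂) :
    len S.X₂ = len S.X₁ + len S.X₃ ∧ IsFiniteLength A S.X₁ ∧ IsFiniteLength A S.X₃ := by
  have hf : Function.Injective S.f.hom := (ModuleCat.mono_iff_injective S.f).1 hS.mono_f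
  have hg : Function.Surjective S.g.hom := (ModuleCat.epi_iff_surjective S.g).1 hS.epi_g
  have hex : Function.Exact S.f.hom S.g.hom :=
    (ShortComplex.ShortExact.moduleCat_exact_iff_function_exact S).1 hS.exact
  have h₁ : IsFiniteLength A S.X₁ := h.of_injective hf
  have h₃ : IsFiniteLength A S.X₃ := h.of_surjective hg
  refine ⟨?_, h₁, h₃⟩
  rw [len, len, len, Module.length_eq_add_of_exact S.f.hom S.g.hom hf hg hex,
    ENat.toNat_add ((Module.length_ne_top_iff).2 h₁) ((Module.length_ne_top_iff).2 h₃)]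
  push_cast
  rfl

theorem euler_len {A : Type u} [Ring A] {c : ComplexShape ι} (σ : ι ≃ ι)
    (hσ : ∀ i, c.Rel i (σ i)) (ε : ι → ℤ) (hε : ∀ i, ε (σ i) = -ε i)
    (E : HomologicalComplex (ModuleCat.{u} A) c) (s : Finset ι)
    (hs : ∀ i, i ∉ s → IsZero (E.X i)) (hP : ∀ i, IsFiniteLength A (E.X i)) :
    ∑ i ∈ s, ε i * len (E.X i) = ∑ i ∈ s, ε i * len (E.homology i) :=
  euler (fun M : ModuleCat.{u} A => IsFiniteLength A M) len len_of_isZero len_add σ hσ ε hε E s hs hP

end Groth.Agent.EulerLib
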